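import Groth.Agent.AmpleFinDescLib.Main
import Groth.Agent.LimAmpleLib.RelAmple
import Groth.Agent.QuasiSecLib.Point
import Groth.Agent.S0066
import Groth.Agent.S4380
import Groth.Agent.MiscFlat6.AmpleFpqcRel
import Groth.Agent.S0793

/-!
# Relative ampleness descends along universally open surjective morphisms
-/

set_option autoImplicit false
universe u

open CategoryTheory CategoryTheory.Limits AlgebraicGeometry TopologicalSpace
open KFlatLib (pb)

noncomputable section

namespace AmpleQSecLib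

theorem isInvertible_of_rank_one {X : Scheme.{u}} {L : X.Modules} (h : FlatMod.IsFinLocFreeOfRank 1 L) :
    PicF.IsInvertible L := fun x => by
  obtain ⟨U, hU, ⟨e⟩⟩ := h x
  exact ⟨U, hU, ⟨e ≪≫
    { hom := Limits.Sigma.desc fun _ => 𝟙 _
      inv := Limits.Sigma.ι (fun _ : Fin 1 => Coh.structureModule (U : Scheme.{u})) 0
      hom_inv_id := Limits.Sigma.hom_ext _ _ fun i => by fin_cases i; simp
      inv_hom_id := Limits.Sigma.ι_desc _ _ }⟩⟩

theorem quasiCompact_of_snd {X Y Y' : Scheme.{u}} (f : X ⟶ Y) (g : Y' ⟶ Y) [UniversallyOpen g]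
    [Surjective g] [QuasiCompact (pullback.snd f g)] : QuasiCompact f := by
  classical
  rw [quasiCompact_iff_forall_isAffineOpen]
  intro V hV
  choose y' hy' using fun y : V => g.surjective y.1
  choose W hW hyW hWV using fun y : V =>
    exists_isAffineOpen_mem_and_subset (x := y' y) (U := g ⁻¹ᵁ V) (show g (y' y) ∈ V from (hy' y).symm ▸ y.2)
  obtain ⟨t, ht⟩ := hV.isCompact.elim_finite_subcover (fun y : V => g '' (W y : Set Y'))
    (fun y => g.isOpenMap _ (W y).2) fun y hy =>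
      Set.mem_iUnion.mpr ⟨⟨y, hy⟩, y' ⟨y, hy⟩, hyW _, hy' _⟩
  have hC : IsCompact (⋃ y ∈ t, (pullback.fst f g) '' ((pullback.snd f g) ⁻¹' (W y : Set Y'))) :=
    t.finite_toSet.isCompact_biUnion fun y _ =>
      (QuasiCompact.isCompact_preimage (f := pullback.snd f g) _ (W y).2 (hW y).isCompact).image
        (pullback.fst f g).continuous
  convert hC using 1
  ext x
  refine ⟨fun hx => ?_, fun hx => ?_⟩
  · obtain ⟨y, hyt, w, hw, e⟩ := Set.mem_iUnion₂.mp (ht (show f x ∈ (V : Set Y) from hx))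
    obtain ⟨z, hz1, hz2⟩ := Scheme.Pullback.exists_preimage_pullback (f := f) (g := g) x w e.symm
    exact Set.mem_iUnion₂.mpr ⟨y, hyt, z, show pullback.snd f g z ∈ (W y : Set Y') from hz2.symm ▸ hw, hz1⟩
  · obtain ⟨y, -, z, hz, rfl⟩ := Set.mem_iUnion₂.mp hx
    show f (pullback.fst f g z) ∈ V
    rw [← Scheme.Hom.comp_apply, pullback.condition, Scheme.Hom.comp_apply]
    exact hWV y hz

/-- A finite surjective quasi-section after an étale base change, near every point. -/
theorem exists_quasiSection {Y Y' : Scheme.{u}} [IsLocallyNoetherian Y] (g : Y' ⟶ Y) [LocallyOfFiniteType g]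
    [UniversallyOpen g] [Surjective g] (y : Y) :
    ∃ (S' S'' : Scheme.{u}) (_ : IsAffine S') (w : S' ⟶ Y) (π : S'' ⟶ S') (h : S'' ⟶ Y'),
      Etale w ∧ IsFinite π ∧ Surjective π ∧ h ≫ g = π ≫ w ∧ y ∈ Set.range w := by
  haveI : LocallyOfFinitePresentation g := inferInstance
  haveI : JacobsonSpace (g.fiber y) := @LocallyOfFiniteType.jacobsonSpace _ _ (g.fiberToSpecResidueField y) (UOpenLib.lft_fiberToSpec g y) _
  obtain ⟨y', hy'⟩ := g.surjective y
  obtain ⟨c, -, hc⟩ := nonempty_inter_closedPoints (X := g.fiber y) (Z := Set.univ)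
    ⟨((g.fiberHomeo y).symm ⟨y', hy'⟩), trivial⟩ isClosed_univ.isLocallyClosed
  let x := g.fiberι y c
  have hxy : g x = y := (g.range_fiberι y).le ⟨c, rfl⟩
  have hcl : ∀ x' : Y', g x' = g x → x ⤳ x' → x' = x := fun x' h1 h2 => by
    obtain ⟨c', rfl⟩ := (g.range_fiberι y).ge (show x' ∈ g ⁻¹' {y} from h1.trans hxy)
    have hs : c ⤳ c' := (g.fiberι y).isEmbedding.isInducing.specializes_iff.mp h2
    exact congrArg _ (hs.mem_closed hc (rfl : c ∈ ({c} : Set _)))
  obtain ⟨z, hzg, hzx, -, hdim⟩ := UOpenLib.exists_max_fibreDimAt g x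
  have hopen : EGA43.IsUnivOpenAt g z := fun T k z' _ => by
    haveI : UniversallyOpen (pullback.snd g k) := inferInstance
    intro s hs
    exact (pullback.snd g k).isOpenMap.image_mem_nhds hs
  obtain ⟨S', S'', hS', w, π, h, hw, hπ, hπs, -, hcomp, s'', hs, -⟩ :=
    Groth.Agent.QuasiSec.exists_quasiSection g x z hcl hzx hzg hopen hdim.ge
  refine ⟨S', S'', hS', w, π, h, hw, hπ, hπs, hcomp, π s'', ?_⟩
  have : s'' ∈ (π ≫ w).base ⁻¹' {g.base x} := hs ▸ rfl
  exact ((Scheme.Hom.comp_apply _ _ _).symm.trans this).trans hxy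

theorem relAmple_iff_baseChange {X Y Y' : Scheme.{u}} [IsLocallyNoetherian Y] (f : X ⟶ Y)
    [LocallyOfFiniteType f] (g : Y' ⟶ Y) [LocallyOfFiniteType g] [UniversallyOpen g] [Surjective g]
    {L : X.Modules} (hL : PicF.IsInvertible L) (Z : Set X) (hZ : ClSub.IsProperOver f Z)
    (hnor : ∀ x : X, x ∉ Z → IsDomain (X.presheaf.stalk x) ∧ IsIntegrallyClosed (X.presheaf.stalk x)) :
    RelAmple.IsRelAmple f L ↔ RelAmple.IsRelAmple (pullback.snd f g) (pb (pullback.fst f g) L) := by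
  constructor
  · intro h
    haveI := h.1
    exact MiscFlat6.isRelAmple_baseChange f g h
  intro hR
  haveI := hR.1
  haveI : QuasiCompact f := quasiCompact_of_snd f g
  haveI : IsLocallyNoetherian X := LocallyOfFiniteType.isLocallyNoetherian f
  have key : ∀ y : Y, ∃ U : Y.Opens, y ∈ U ∧
      RelAmple.IsRelAmple (f ∣_ U) (L.restrict (f ⁻¹ᵁ U).ι) := by
    intro y
    obtain ⟨S', S'', hS', w, π, h, hw, hπ, hπs, hcomp, hy⟩ := exists_quasiSection g y
    haveI := hw
    haveI := hπ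
    haveI := hπs
    haveI : UniversallyOpen w := inferInstance
    haveI : LocallyOfFiniteType w := inferInstance
    haveI : IsLocallyNoetherian S' := LocallyOfFiniteType.isLocallyNoetherian w
    -- ampleness over S'
    let f1 := pullback.snd f w
    let p1 := pullback.fst f w
    have hL1 := AmpleDevLib.isInvertible_pb p1 hL
    let g1 := pullback.fst f1 π
    let f2 := pullback.snd f1 π
    have hsq2 : IsPullback (g1 ≫ p1) f2 f (π ≫ w) :=
      (IsPullback.of_hasPullback f1 π).paste_horiz (IsPullback.of_hasPullback f w)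
    let μ : pullback f1 π ⟶ pullback f g :=
      pullback.lift (g1 ≫ p1) (f2 ≫ h) (by rw [hsq2.w, Category.assoc, hcomp])
    have hμ1 : μ ≫ pullback.fst f g = g1 ≫ p1 := pullback.lift_fst _ _ _
    have hsq : IsPullback μ f2 (pullback.snd f g) h :=
      IsPullback.of_right (by rw [hμ1, hcomp]; exact hsq2) (pullback.lift_snd _ _ _)
        (IsPullback.of_hasPullback f g)
    have h1 := LimAmpleLib.relAmple_baseChange' hsq hR
    obtain ⟨e1⟩ := LimAmpleLib.pb_pb_iso μ (pullback.fst f g) (g1 ≫ p1) hμ1 L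
    obtain ⟨e2⟩ := LimAmpleLib.pb_pb_iso g1 p1 (g1 ≫ p1) rfl L
    have h2 : RelAmple.IsRelAmple f2 (pb g1 (pb p1 L)) :=
      LimAmpleLib.relAmple_of_iso f2 (e1 ≪≫ e2.symm) (AmpleDevLib.isInvertible_pb g1 hL1) h1
    have h3 : RelAmple.IsRelAmple (g1 ≫ f1) (pb g1 (pb p1 L)) := by
      rw [pullback.condition]
      haveI := h2.1
      exact ⟨inferInstance, fun W => h2.2 ⟨π ⁻¹ᵁ W.1, W.2.preimage π⟩⟩
    haveI : IsLocallyNoetherian (pullback f w) := LocallyOfFiniteType.isLocallyNoetherian f1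
    have h4 : RelAmple.IsRelAmple f1 (pb p1 L) := by
      refine (AmpleFinDescLib.relAmple_iff_pb f1 g1 hL1 (p1 ⁻¹' Z)
        (Groth.Agent.S0793.result f w p1 f1 (IsPullback.of_hasPullback f w) Z hZ)
        (fun x hx => Or.inl ?_)).mpr h3
      exact (Groth.Agent.S0066.result p1 x).mpr (hnor _ hx)
    -- descent to the image
    let U : Y.Opens := ⟨Set.range w, w.isOpenMap.isOpen_range⟩
    refine ⟨U, hy, ?_⟩
    let w0 : S' ⟶ U.toScheme := IsOpenImmersion.lift U.ι w (by rw [Scheme.Opens.range_ι]; rfl)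
    have hw0 : w0 ≫ U.ι = w := IsOpenImmersion.lift_fac _ _ _
    haveI : Etale (w0 ≫ U.ι) := hw0.symm ▸ hw
    haveI : Etale w0 := MorphismProperty.of_postcomp @Etale w0 U.ι (by infer_instance : Etale U.ι) inferInstance
    haveI : Flat w0 := inferInstance
    haveI : Surjective w0 := ⟨fun u => by
      obtain ⟨s, hs⟩ := u.2
      exact ⟨s, U.ι.isOpenEmbedding.injective (by rw [← Scheme.Hom.comp_apply, hw0]; exact hs)⟩⟩
    haveI : IsLocallyNoetherian U.toScheme := LocallyOfFiniteType.isLocallyNoetherian U.ι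
    haveI : QuasiCompact w0 := inferInstance
    have hr : Set.range p1 ⊆ Set.range (f ⁻¹ᵁ U).ι := by
      rw [Scheme.Opens.range_ι]
      rintro _ ⟨v, rfl⟩
      exact ⟨f1 v, by rw [← Scheme.Hom.comp_apply, ← pullback.condition, Scheme.Hom.comp_apply]⟩
    let q : pullback f w ⟶ (f ⁻¹ᵁ U).toScheme := IsOpenImmersion.lift (f ⁻¹ᵁ U).ι p1 hr
    have hq : q ≫ (f ⁻¹ᵁ U).ι = p1 := IsOpenImmersion.lift_fac _ _ _
    have hsq0 : IsPullback q f1 (f ∣_ U) w0 := by
      refine IsPullback.of_right (h₁₂ := (f ⁻¹ᵁ U).ι) (v₁₃ := f) (h₂₂ := U.ι)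
        (by rw [hq, hw0]; exact IsPullback.of_hasPullback f w) ?_ (isPullback_morphismRestrict f U).flip
      rw [← cancel_mono U.ι, Category.assoc, morphismRestrict_ι, ← Category.assoc, hq, Category.assoc, hw0]
      exact pullback.condition
    let e := hsq0.isoPullback
    have h5 := NormDescLib.relAmple_pb e.inv f1 h4
    rw [hsq0.isoPullback_inv_snd] at h5
    have hLU := AmpleThLib.restrict_isInvertible hL (f ⁻¹ᵁ U).ι
    refine MiscFlat6.isRelAmple_of_baseChange (f ∣_ U) hLU w0 ?_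
    obtain ⟨e3⟩ := LimAmpleLib.pb_pb_iso e.inv p1 (pullback.fst (f ∣_ U) w0 ≫ (f ⁻¹ᵁ U).ι)
      (by rw [← hq, ← Category.assoc, hsq0.isoPullback_inv_fst]) L
    obtain ⟨e4⟩ := LimAmpleLib.pb_pb_iso (pullback.fst (f ∣_ U) w0) (f ⁻¹ᵁ U).ι _ rfl L
    exact LimAmpleLib.relAmple_of_iso _
      (e3 ≪≫ e4.symm ≪≫ (Scheme.Modules.pullback (pullback.fst (f ∣_ U) w0)).mapIso
        ((Scheme.Modules.restrictFunctorIsoPullback (f ⁻¹ᵁ U).ι).app L).symm)
      (AmpleDevLib.isInvertible_pb _ hLU) h5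
  choose U hyU hU using key
  exact (Groth.Agent.S4380.result f L U
    (top_le_iff.mp fun y _ => Opens.mem_iSup.mpr ⟨y, hyU y⟩)).mpr hU

end AmpleQSecLib
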